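import Groth.Prelude.Def_SheafNL
import Mathlib.RingTheory.Extension.Cotangent.BaseChange
import Mathlib.RingTheory.Flat.Equalizer
import Mathlib.RingTheory.Localization.BaseChange

/-! # Base change of the naive cotangent complex along a cocartesian square -/

set_option autoImplicit false
set_option maxHeartbeats 1000000
set_option backward.isDefEq.respectTransparency false
set_option linter.style.haveILetI false
universe u

open CategoryTheory TensorProduct Algebra

namespace GrothLib.NLBC6

section

variable {R S R' S' : Type u} [CommRing R] [CommRing S] [CommRing R'] [CommRing S'] [Algebra R S]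
  [Algebra R' S'] [Algebra R R'] [Algebra S S'] [Algebra R S'] [IsScalarTower R R' S'] [IsScalarTower R S S']
  {ι : Type u} (G : Generators R S ι) (G' : Generators R' S' ι) (h : ∀ i, G'.val i = algebraMap S S' (G.val i))

local notation "P" => Generators.toExtension G
local notation "P'" => Generators.toExtension G'
local notation "φ" => Generators.Hom.toExtensionHom (NLCx.sameVarsHom G G' h)

/-- The map of the polynomial rings is the coefficient map. -/
theorem hom_apply (x : MvPolynomial ι R) : (φ).toRingHom x = MvPolynomial.map (algebraMap R R') x := by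
  show MvPolynomial.aeval (fun i => (MvPolynomial.X i : MvPolynomial ι R')) x = _
  induction x using MvPolynomial.induction_on with
  | C a => simp
  | add p q hp hq => simp [hp, hq]
  | mul_X p i hp => simp [hp]

variable [Algebra.IsPushout R R' S S']

/-- The kernel of the base-changed presentation is the extended ideal. -/
theorem ker_eq : (P').ker = (P).ker.map (φ).toRingHom := by
  let ε := MvPolynomial.algebraTensorAlgEquiv R R' (σ := ι)
  let e := Algebra.IsPushout.equiv R R' S S'
  let ψ : R' ⊗[R] MvPolynomial ι R →ₐ[R'] R' ⊗[R] S :=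
    Algebra.TensorProduct.map (AlgHom.id R' R') (MvPolynomial.aeval G.val)
  have hψ : e.toAlgHom.comp ψ = (MvPolynomial.aeval G'.val).comp ε.toAlgHom := by
    ext i
    · simp [ψ, ε, e, Algebra.IsPushout.equiv_tmul, h]
  have hψ' : ∀ z, ψ z = Algebra.TensorProduct.map (AlgHom.id R R') (MvPolynomial.aeval G.val) z := fun z => by
    induction z with
    | zero => simp
    | add x y hx hy => rw [map_add, map_add, hx, hy]
    | tmul t x => simp [ψ]
  have hsur : Function.Surjective (MvPolynomial.aeval G.val : MvPolynomial ι R →ₐ[R] S) :=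
    fun x => ⟨G.σ x, G.aeval_val_σ x⟩
  have hker := Algebra.TensorProduct.lTensor_ker (A := R') (MvPolynomial.aeval G.val) hsur
  have hmap : ∀ x : MvPolynomial ι R, ε (1 ⊗ₜ x) = (φ).toRingHom x := fun x => by
    rw [hom_apply]
    simp [ε]
  rw [show (P').ker = RingHom.ker (MvPolynomial.aeval G'.val) from G'.ker_eq_ker_aeval_val,
    show (P).ker = RingHom.ker (MvPolynomial.aeval G.val) from G.ker_eq_ker_aeval_val]
  apply le_antisymm
  · intro y hy
    obtain ⟨z, rfl⟩ := ε.surjective y
    have hz : z ∈ RingHom.ker (Algebra.TensorProduct.map (AlgHom.id R R') (MvPolynomial.aeval G.val)) := by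
      refine (hψ' z).symm.trans (e.injective ?_)
      have := DFunLike.congr_fun hψ z
      simp only [AlgHom.comp_apply] at this
      rw [map_zero]
      exact this.trans hy
    rw [hker] at hz
    have hle : Ideal.map (Algebra.TensorProduct.includeRight : MvPolynomial ι R →ₐ[R] R' ⊗[R] MvPolynomial ι R)
        (RingHom.ker (MvPolynomial.aeval G.val)) ≤
          Ideal.comap ε.toAlgHom.toRingHom (Ideal.map (φ).toRingHom (RingHom.ker (MvPolynomial.aeval G.val))) :=
      Ideal.map_le_iff_le_comap.2 fun x hx => by
        show ε (1 ⊗ₜ x) ∈ Ideal.map (φ).toRingHom (RingHom.ker (MvPolynomial.aeval G.val))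
        rw [hmap]
        exact Ideal.mem_map_of_mem _ hx
    exact hle hz
  · have : ∀ x : MvPolynomial ι R, MvPolynomial.aeval G.val x = 0 →
        MvPolynomial.aeval G'.val (ε (1 ⊗ₜ x)) = 0 := fun x hx => by
      have := DFunLike.congr_fun hψ (1 ⊗ₜ x)
      simp only [AlgHom.comp_apply] at this
      refine this.symm.trans ?_
      simp [ψ, hx]
    refine Ideal.map_le_iff_le_comap.2 fun x hx => ?_
    show MvPolynomial.aeval G'.val ((φ).toRingHom x) = 0
    rw [← hmap]
    exact this x hx

/-- Surjectivity on conormal modules. -/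
theorem cotangent_surjective :
    Function.Surjective (LinearMap.liftBaseChange S' (Extension.Cotangent.map φ)) := by
  intro y
  obtain ⟨⟨y, hy⟩, rfl⟩ := Extension.Cotangent.mk_surjective y
  have hy' : y ∈ Ideal.map (φ).toRingHom (P).ker := by rw [← ker_eq G G' h]; exact hy
  suffices ∀ (y : (P').Ring), y ∈ Ideal.map (φ).toRingHom (P).ker → ∀ hy : y ∈ (P').ker,
      ∃ z, LinearMap.liftBaseChange S' (Extension.Cotangent.map φ) z = Extension.Cotangent.mk ⟨y, hy⟩ from
    this y hy' hy
  intro y hy'
  induction hy' using Submodule.span_induction with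
  | mem y hy =>
    obtain ⟨x, hx, rfl⟩ := hy
    intro hy
    refine ⟨1 ⊗ₜ Extension.Cotangent.mk ⟨x, hx⟩, ?_⟩
    simp [Extension.Cotangent.map_mk]
  | zero => exact fun _ => ⟨0, by rw [map_zero]; exact (map_zero Extension.Cotangent.mk).symm⟩
  | add a b ha hb iha ihb =>
    intro hy
    have ha' : a ∈ (P').ker := by rw [ker_eq G G' h]; exact ha
    have hb' : b ∈ (P').ker := by rw [ker_eq G G' h]; exact hb
    obtain ⟨za, hza⟩ := iha ha'
    obtain ⟨zb, hzb⟩ := ihb hb'
    exact ⟨za + zb, by rw [map_add, hza, hzb, ← map_add]; rfl⟩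
  | smul c a ha iha =>
    intro hy
    have ha' : a ∈ (P').ker := by rw [ker_eq G G' h]; exact ha
    obtain ⟨z, hz⟩ := iha ha'
    refine ⟨algebraMap (P').Ring S' c • z, ?_⟩
    rw [map_smul, hz]
    ext
    simp only [Extension.Cotangent.val_mk, Extension.Cotangent.val_smul', algebraMap_smul]
    rw [← map_smul]
    rfl

/-- Bijectivity on cotangent spaces. -/
theorem cotangentSpace_bijective :
    Function.Bijective (LinearMap.liftBaseChange S' (Extension.CotangentSpace.map φ)) := by
  let b := G.cotangentSpaceBasis.baseChange S'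
  have : LinearMap.liftBaseChange S' (Extension.CotangentSpace.map φ) =
      (b.equiv G'.cotangentSpaceBasis (Equiv.refl ι)).toLinearMap := by
    refine b.ext fun i => ?_
    rw [LinearEquiv.coe_coe, Module.Basis.equiv_apply, Equiv.refl_apply]
    simp only [b, Module.Basis.baseChange_apply, LinearMap.liftBaseChange_tmul, one_smul]
    rw [Generators.cotangentSpaceBasis_apply, Generators.cotangentSpaceBasis_apply]
    erw [Extension.CotangentSpace.map_tmul, map_one]
    congr 2
    exact Generators.Hom.toAlgHom_X _ i
  rw [this]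
  exact LinearEquiv.bijective _

/-- Injectivity on conormal modules, under exactness of the base change. -/
theorem cotangent_injective_of_exact
    (hinj : Function.Injective
      (LinearMap.lTensor R' ((P).ker.cotangentToQuotientSquare.restrictScalars R))) :
    Function.Injective (LinearMap.liftBaseChange S' (Extension.Cotangent.map φ)) := by
  let ε := MvPolynomial.algebraTensorAlgEquiv R R' (σ := ι)
  let a : (P).Ring →+* R' ⊗[R] (P).Ring := Algebra.TensorProduct.includeRight.toRingHom
  have hmap : ∀ x : MvPolynomial ι R, ε (1 ⊗ₜ x) = (φ).toRingHom x := fun x => by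
    rw [hom_apply]
    simp [ε]
  have hmap_tmul : ∀ (t : R') (x : MvPolynomial ι R), (MvPolynomial.C t : MvPolynomial ι R') * MvPolynomial.map (algebraMap R R') x = ε (t ⊗ₜ x) :=
    fun t x => by
    simp [ε, MvPolynomial.smul_eq_C_mul]
  let J : Ideal (R' ⊗[R] MvPolynomial ι R) := (P).ker.map a
  have hJ : (P').ker ^ 2 = (J ^ 2).map (ε : R' ⊗[R] MvPolynomial ι R →+* MvPolynomial ι R') := by
    rw [Ideal.map_pow, Ideal.map_map, ker_eq G G' h]
    congr 2
    exact RingHom.ext fun x => (hmap x).symm
  let hₐ : R' ⊗[R] ((P).Ring ⧸ (P).ker ^ 2) ≃ₐ[R'] (P').Ring ⧸ (P').ker ^ 2 :=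
    (Algebra.TensorProduct.tensorQuotientEquiv _ _ _ _).trans
      ((Ideal.quotientEquivAlgOfEq R' (Ideal.map_pow _ _ _)).trans
        (Ideal.quotientEquivAlg (J ^ 2) ((P').ker ^ 2) ε hJ))
  let c := (Algebra.IsPushout.cancelBaseChange R R' S S' (P).Cotangent).symm
  refine (Function.Injective.of_comp_iff' _ c.bijective).1 ?_
  let g : (P').Cotangent →+ (P').Ring ⧸ (P').ker ^ 2 :=
    (Ideal.cotangentToQuotientSquare (P').ker).toAddMonoidHom.comp
      (P').cotangentEquivCotangentKer.toAddEquiv.toAddMonoidHom
  refine Function.Injective.of_comp (f := g) ?_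
  let k : R' ⊗[R] (P).Cotangent →ₗ[R] R' ⊗[R] ((P).Ring ⧸ (P).ker ^ 2) :=
    LinearMap.lTensor R' (((P).ker.cotangentToQuotientSquare.restrictScalars R).comp
      ((P).cotangentEquivCotangentKer.restrictScalars R).toLinearMap)
  have hk : Function.Injective k := by
    simp only [k, LinearMap.lTensor_comp, LinearMap.coe_comp]
    exact hinj.comp (LinearEquiv.lTensor R' ((P).cotangentEquivCotangentKer.restrictScalars R)).injective
  have : (g ∘ LinearMap.liftBaseChange S' (Extension.Cotangent.map φ) ∘ c) = hₐ ∘ k := by
    funext z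
    induction z with
    | zero => simp
    | add x y hx hy =>
      simp only [Function.comp_apply, map_add] at hx hy ⊢
      rw [hx, hy]
    | tmul t x =>
      obtain ⟨⟨x, hx⟩, rfl⟩ := Extension.Cotangent.mk_surjective x
      simp [c, g, k, hₐ, Extension.Cotangent.map_mk, Ideal.toCotangent_to_quotient_square,
        Algebra.smul_def]
      erw [Ideal.quotientEquivAlg_mk]
      show _ = Ideal.Quotient.mk _ (ε (t ⊗ₜ x))
      rw [← hmap_tmul]
      rw [map_mul]
      refine congrArg₂ (· * ·) rfl (congrArg (Ideal.Quotient.mk ((P').ker ^ 2)) ?_)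
      exact hom_apply G G' h x
  rw [this]
  exact hₐ.injective.comp hk

/-- Exactness when the base change is flat. -/
theorem exact_of_flat_base [Module.Flat R R'] :
    Function.Injective
      (LinearMap.lTensor R' ((P).ker.cotangentToQuotientSquare.restrictScalars R)) :=
  Module.Flat.lTensor_preserves_injective_linearMap _ (Ideal.cotangentToQuotientSquare_injective _)

end

/-- Exactness when the algebra is flat. -/
theorem exact_of_flat {R S R' : Type u} [CommRing R] [CommRing S] [CommRing R'] [Algebra R S] [Algebra R R']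
    [Module.Flat R S] {ι : Type u} (G : Generators R S ι) :
    Function.Injective
      (LinearMap.lTensor R' (G.toExtension.ker.cotangentToQuotientSquare.restrictScalars R)) := by
  let I := G.toExtension.ker
  let f : (G.toExtension.Ring ⧸ I ^ 2) →ₐ[R] S :=
    Ideal.Quotient.liftₐ (I ^ 2) (IsScalarTower.toAlgHom R G.toExtension.Ring S)
      fun x hx => Ideal.pow_le_self two_ne_zero hx
  refine LinearMap.lTensor_injective_of_exact_of_flat f.toLinearMap ?_ _
    (Ideal.cotangentToQuotientSquare_injective _) ?_ R'
  · intro s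
    exact ⟨Ideal.Quotient.mk _ (G.toExtension.σ s), G.toExtension.algebraMap_σ s⟩
  · intro q
    obtain ⟨x, rfl⟩ := Ideal.Quotient.mk_surjective q
    constructor
    · intro hx
      exact ⟨I.toCotangent ⟨x, hx⟩, Ideal.toCotangent_to_quotient_square _ _⟩
    · rintro ⟨y, hy⟩
      obtain ⟨⟨y, hy'⟩, rfl⟩ := Ideal.toCotangent_surjective _ y
      rw [← hy]
      exact hy'

end GrothLib.NLBC6
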