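import Groth.Agent.Lib.NLBC6.Basic
import Groth.Agent.Lib.NLAmp.Two

/-! # Base change maps of naive cotangent complexes -/

set_option autoImplicit false
set_option maxHeartbeats 1000000
set_option backward.isDefEq.respectTransparency false
set_option linter.style.haveILetI false
universe u

open CategoryTheory TensorProduct Algebra

attribute [local instance] HasDerivedCategory.standard

namespace GrothLib.NLBC6

section Homotopy

variable {R S : Type u} [CommRing R] [CommRing S] [Algebra R S] {P P' : Extension.{u} R S}

/-- The homotopy equivalence of two extensions related by maps in both directions. -/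
noncomputable def extHomotopyEquiv (f : P.Hom P') (g : P'.Hom P) : HomotopyEquiv (NLCx.cx P) (NLCx.cx P') where
  hom := NLAmp.twoHom P.cotangentComplex P'.cotangentComplex (Extension.Cotangent.map f)
    (Extension.CotangentSpace.map f) (LinearMap.ext fun x => (Extension.CotangentSpace.map_cotangentComplex f x).symm)
  inv := NLAmp.twoHom P'.cotangentComplex P.cotangentComplex (Extension.Cotangent.map g)
    (Extension.CotangentSpace.map g) (LinearMap.ext fun x => (Extension.CotangentSpace.map_cotangentComplex g x).symm)
  homotopyHomInvId := NLAmp.twoHomotopy _ _ ((g.comp f).sub (.id P))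
    (NLAmp.twoHom_comp_f₀ _ _ _ _ _ _ _ _ _ (by
      rw [← Extension.Cotangent.map_sub_map, Extension.Cotangent.map_id]
      refine LinearMap.ext fun x => ?_
      simp [Extension.Cotangent.map_comp]))
    (NLAmp.twoHom_comp_f₁ _ _ _ _ _ _ _ _ _ (by
      have h := Extension.CotangentSpace.map_sub_map (g.comp f) (.id P)
      rw [Extension.CotangentSpace.map_id] at h
      refine LinearMap.ext fun x => ?_
      have h' := LinearMap.congr_fun h x
      simp only [LinearMap.sub_apply, LinearMap.id_apply, LinearMap.comp_apply, LinearMap.add_apply,
        LinearMap.coe_restrictScalars, Extension.CotangentSpace.map_comp_apply] at h' ⊢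
      rw [← h', add_sub_cancel]))
  homotopyInvHomId := NLAmp.twoHomotopy _ _ ((f.comp g).sub (.id P'))
    (NLAmp.twoHom_comp_f₀ _ _ _ _ _ _ _ _ _ (by
      rw [← Extension.Cotangent.map_sub_map, Extension.Cotangent.map_id]
      refine LinearMap.ext fun x => ?_
      simp [Extension.Cotangent.map_comp]))
    (NLAmp.twoHom_comp_f₁ _ _ _ _ _ _ _ _ _ (by
      have h := Extension.CotangentSpace.map_sub_map (f.comp g) (.id P')
      rw [Extension.CotangentSpace.map_id] at h
      refine LinearMap.ext fun x => ?_
      have h' := LinearMap.congr_fun h x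
      simp only [LinearMap.sub_apply, LinearMap.id_apply, LinearMap.comp_apply, LinearMap.add_apply,
        LinearMap.coe_restrictScalars, Extension.CotangentSpace.map_comp_apply] at h' ⊢
      rw [← h', add_sub_cancel]))

theorem extHomotopyEquiv_hom (f : P.Hom P') (g : P'.Hom P) : (extHomotopyEquiv f g).hom = NLCx.map f := rfl

end Homotopy

section BC

variable {R S R' S' : Type u} [CommRing R] [CommRing S] [CommRing R'] [CommRing S'] [Algebra R S]
  [Algebra R' S'] [Algebra R R'] [Algebra S S'] [Algebra R S'] [IsScalarTower R R' S'] [IsScalarTower R S S']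
  {P : Extension.{u} R S} {P' P'' : Extension.{u} R' S'}

/-- Composition with a map of presentations of the target. -/
theorem bcMap_comp (f : P.Hom P') (e : P'.Hom P'') : NLCx.bcMap (e.comp f) = NLCx.bcMap f ≫ NLCx.map e := by
  refine HomologicalComplex.from_double_hom_ext ?_ ?_
  all_goals
    simp only [NLCx.bcMap, NLCx.map, HomologicalComplex.comp_f, HomologicalComplex.mkHomFromDouble_f₀,
      HomologicalComplex.mkHomFromDouble_f₁, Category.assoc, Iso.inv_hom_id_assoc]
    congr 1
    rw [← Category.assoc, ← ModuleCat.ofHom_comp]
    congr 2
    ext x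
    simp [Extension.Cotangent.map_comp, Extension.CotangentSpace.map_comp]

/-- `bcH1Map` does not depend on the map of extensions. -/
theorem bcH1Map_eq (f g : P.Hom P') : NLCx.bcH1Map (S' := S') f = NLCx.bcH1Map g := by
  ext ⟨x, hx⟩ : 1
  refine Subtype.ext ?_
  have h : LinearMap.liftBaseChange S' (Extension.Cotangent.map f) -
      LinearMap.liftBaseChange S' (Extension.Cotangent.map g) =
      (LinearMap.liftBaseChange S' (f.sub g)).comp (P.cotangentComplex.baseChange S') := by
    ext y
    simpa using congrArg Extension.Cotangent.val (LinearMap.congr_fun (Extension.Cotangent.map_sub_map f g) y)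
  have h' := LinearMap.congr_fun h x
  simp only [NLCx.bcH1, LinearMap.mem_ker] at hx
  rw [LinearMap.sub_apply, LinearMap.comp_apply, hx, map_zero, sub_eq_zero] at h'
  exact h'

/-- `bcH1Map` of a composite. -/
theorem bcH1Map_comp (f : P.Hom P') (e : P'.Hom P'') :
    NLCx.bcH1Map (S' := S') (e.comp f) = (Extension.H1Cotangent.map e).comp (NLCx.bcH1Map f) := by
  ext ⟨x, hx⟩ : 1
  refine Subtype.ext ?_
  show LinearMap.liftBaseChange S' (Extension.Cotangent.map (e.comp f)) x =
    Extension.Cotangent.map e (LinearMap.liftBaseChange S' (Extension.Cotangent.map f) x)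
  rw [← LinearMap.comp_apply]
  congr 1
  ext y
  simp [Extension.Cotangent.map_comp]

/-- Surjectivity on first homology from surjectivity on conormal modules and injectivity on cotangent spaces. -/
theorem bcH1Map_surjective (f : P.Hom P')
    (h0 : Function.Surjective (LinearMap.liftBaseChange S' (Extension.Cotangent.map f)))
    (h1 : Function.Injective (LinearMap.liftBaseChange S' (Extension.CotangentSpace.map f))) :
    Function.Surjective (NLCx.bcH1Map (S' := S') f) := by
  rintro ⟨y, hy⟩
  obtain ⟨x, rfl⟩ := h0 y
  refine ⟨⟨x, h1 ?_⟩, rfl⟩
  rw [map_zero, ← LinearMap.comp_apply]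
  refine Eq.trans ?_ hy
  rw [← LinearMap.comp_apply]
  refine LinearMap.congr_fun ?_ x
  ext z
  simpa using Extension.CotangentSpace.map_cotangentComplex f z

/-- A componentwise bijective base change map is an isomorphism. -/
theorem isIso_bcMap (f : P.Hom P')
    (h0 : Function.Bijective (LinearMap.liftBaseChange S' (Extension.Cotangent.map f)))
    (h1 : Function.Bijective (LinearMap.liftBaseChange S' (Extension.CotangentSpace.map f))) :
    IsIso (NLCx.bcMap (S' := S') f) := by
  haveI := (ConcreteCategory.isIso_iff_bijective (ModuleCat.ofHom _)).2 h0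
  haveI := (ConcreteCategory.isIso_iff_bijective (ModuleCat.ofHom _)).2 h1
  haveI : ∀ n, IsIso ((NLCx.bcMap (S' := S') f).f n) := fun n => by
    by_cases h₀ : n = -1
    · subst h₀
      simp only [NLCx.bcMap, HomologicalComplex.mkHomFromDouble_f₀]
      infer_instance
    by_cases h₁ : n = 0
    · subst h₁
      simp only [NLCx.bcMap, HomologicalComplex.mkHomFromDouble_f₁]
      infer_instance
    exact Limits.IsZero.isIso (HomologicalComplex.isZero_double_X _ _ n h₀ h₁)
      (HomologicalComplex.isZero_double_X _ _ n h₀ h₁) _
  exact HomologicalComplex.Hom.isIso_of_components _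

end BC

section Self

variable (R S R' S' : Type u) [CommRing R] [CommRing S] [CommRing R'] [CommRing S'] [Algebra R S]
  [Algebra R' S'] [Algebra R R'] [Algebra S S'] [Algebra R S'] [IsScalarTower R R' S'] [IsScalarTower R S S']
  [Algebra.IsPushout R R' S S']

variable {S R S'} in
/-- The base-changed generators. -/
noncomputable def bcGen {ι : Type u} (G : Generators R S ι) : Generators R' S' ι :=
  (G.baseChange R').ofAlgEquiv (Algebra.IsPushout.equiv R R' S S')

variable {S R S'} in
theorem bcGen_val {ι : Type u} (G : Generators R S ι) (i : ι) :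
    (bcGen R' G (S' := S')).val i = algebraMap S S' (G.val i) := by
  simp [bcGen, Generators.ofAlgEquiv, Algebra.IsPushout.equiv_tmul]

variable {R S R' S'} in
/-- The map from the base-changed presentation to the tautological one. -/
noncomputable def toSelf : (bcGen R' (Generators.self R S) (S' := S')).Hom (Generators.self R' S') :=
  Generators.defaultHom _ _

variable {R S R' S'} in
theorem toSelf_comp :
    (toSelf (R := R) (S := S) (R' := R') (S' := S')).toExtensionHom.comp
      (NLCx.sameVarsHom (Generators.self R S) (bcGen R' (Generators.self R S)) (bcGen_val R' _)).toExtensionHom =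
      ((Generators.self R S).defaultHom (Generators.self R' S')).toExtensionHom := by
  rw [← Generators.Hom.toExtensionHom_comp]
  congr 1
  ext i : 2
  simp [NLCx.sameVarsHom, toSelf, Generators.defaultHom, bcGen_val, Generators.Hom.toAlgHom_X]

theorem bcH1Map_self_surjective :
    Function.Surjective (NLCx.bcH1Map (S' := S')
      ((Generators.self R S).defaultHom (Generators.self R' S')).toExtensionHom) := by
  rw [← toSelf_comp, bcH1Map_comp, LinearMap.coe_comp]
  refine Function.Surjective.comp ?_ (bcH1Map_surjective _ (cotangent_surjective _ _ _)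
    (cotangentSpace_bijective _ _ _).1)
  exact (Extension.H1Cotangent.equiv (toSelf (R := R) (S := S)).toExtensionHom
    ((Generators.self R' S').defaultHom (bcGen R' (Generators.self R S))).toExtensionHom).surjective

/-- The canonical base change map as a homotopy equivalence, under exactness. -/
theorem exists_homotopyEquiv_bcMapSelf
    (hinj : Function.Injective (LinearMap.lTensor R'
      ((Generators.self R S).toExtension.ker.cotangentToQuotientSquare.restrictScalars R))) :
    ∃ e : HomotopyEquiv (NLCx.bcCx (Generators.self R S).toExtension S')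
      (NLCx.cx (Generators.self R' S').toExtension), e.hom = NLCx.bcMapSelf R S R' S' := by
  let G := bcGen R' (Generators.self R S) (S' := S')
  let f := (NLCx.sameVarsHom (Generators.self R S) G (bcGen_val R' _)).toExtensionHom
  haveI := isIso_bcMap f ⟨cotangent_injective_of_exact _ _ _ hinj, cotangent_surjective _ _ _⟩
    (cotangentSpace_bijective _ _ _)
  refine ⟨(HomotopyEquiv.ofIso (asIso (NLCx.bcMap f))).trans
    (extHomotopyEquiv (toSelf (R := R) (S := S)).toExtensionHom
      ((Generators.self R' S').defaultHom G).toExtensionHom), ?_⟩
  show NLCx.bcMap f ≫ NLCx.map _ = _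
  rw [← bcMap_comp, NLCx.bcMapSelf]
  exact congrArg NLCx.bcMap toSelf_comp

end Self

/-- A localisation of the base gives a cocartesian square. -/
theorem isPushout_of_localization_base (A A' B : Type u) [CommRing A] [CommRing A'] [CommRing B] [Algebra A A']
    (M : Submonoid A) [IsLocalization M A'] [Algebra A' B] [Algebra A B] [IsScalarTower A A' B] :
    Algebra.IsPushout A A' B B := by
  haveI : IsLocalization (Algebra.algebraMapSubmonoid B M) B := IsLocalization.self (by
    rintro x ⟨y, hy, rfl⟩
    rw [IsUnit.mem_submonoid_iff, IsScalarTower.algebraMap_apply A A' B]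
    exact (IsLocalization.map_units A' ⟨y, hy⟩).map _)
  exact (Algebra.isPushout_of_isLocalization (T := B) M A' B).symm

end GrothLib.NLBC6
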