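import Groth.Agent.Lib.NLBC6.Complex
import Groth.Agent.Lib.DCxKFlat.LBaseKFlat
import Groth.Agent.Lib.DCxKFlat.KFlatBounded
import Groth.Agent.Lib.DCxRing.Covers

/-! # Derived base change of the naive cotangent complex -/

set_option autoImplicit false
set_option maxHeartbeats 1000000
set_option backward.isDefEq.respectTransparency false
set_option linter.style.haveILetI false
universe u

open CategoryTheory CategoryTheory.Limits TensorProduct Algebra HomologicalComplex

attribute [local instance] HasDerivedCategory.standard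

namespace GrothLib.NLBC6

variable {S S' : Type u} [CommRing S] [CommRing S'] {M F : Type u} [AddCommGroup M] [Module S M]
  [AddCommGroup F] [Module S F]

theorem nonempty_bc_two_aux (inst : Algebra S S') (φ : S →+* S') (hφ : inst = φ.toAlgebra) (d : M →ₗ[S] F) :
    Nonempty (NLAmp.two (d.baseChange S') ≅ (DR.bc φ).obj (NLAmp.two d)) := by
  subst hφ
  letI := φ.toAlgebra
  let E := ModuleCat.extendScalars.{u, u, u} φ
  let c₀ : ModuleCat.of S' (S' ⊗[S] M) ⟶ ((DR.bc φ).obj (NLAmp.two d)).X (-1) :=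
    E.map (doubleXIso₀ (ModuleCat.ofHom d) NLAmp.rel_neg_one).inv
  let c₁ : ModuleCat.of S' (S' ⊗[S] F) ⟶ ((DR.bc φ).obj (NLAmp.two d)).X 0 :=
    E.map (doubleXIso₁ (ModuleCat.ofHom d) NLAmp.rel_neg_one NLAmp.neg_one_ne).inv
  let a : NLAmp.two (d.baseChange S') ⟶ (DR.bc φ).obj (NLAmp.two d) :=
    mkHomFromDouble NLAmp.rel_neg_one NLAmp.neg_one_ne c₀ c₁ (by
      show E.map _ ≫ E.map ((NLAmp.two d).d (-1) 0) = E.map (ModuleCat.ofHom d) ≫ E.map _
      rw [← E.map_comp, ← E.map_comp, double_d _ _ NLAmp.neg_one_ne, Iso.inv_hom_id_assoc])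
      (fun k _ => by
        show E.map _ ≫ E.map ((NLAmp.two d).d 0 k) = 0
        rw [double_d_eq_zero₀ _ _ _ _ (Ne.symm NLAmp.neg_one_ne), E.map_zero, comp_zero])
  haveI : ∀ n, IsIso (a.f n) := fun n => by
    by_cases h₀ : n = -1
    · subst h₀
      rw [mkHomFromDouble_f₀]
      haveI : IsIso c₀ := inferInstanceAs (IsIso (E.map _))
      infer_instance
    by_cases h₁ : n = 0
    · subst h₁
      rw [mkHomFromDouble_f₁]
      haveI : IsIso c₁ := inferInstanceAs (IsIso (E.map _))
      infer_instance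
    exact IsZero.isIso (isZero_double_X _ _ n h₀ h₁)
      (E.map_isZero (isZero_double_X _ _ n h₀ h₁)) _
  haveI : IsIso a := HomologicalComplex.Hom.isIso_of_components a
  exact ⟨asIso a⟩

/-- Derived base change of a two-term complex of flat modules. -/
theorem nonempty_lBase_two [Algebra S S'] [DRing.HasLBaseChange (algebraMap S S')] (d : M →ₗ[S] F)
    [Module.Flat S M] [Module.Flat S F] :
    Nonempty ((DRing.LBaseChange (algebraMap S S')).obj (DRing.toD (NLAmp.two d)) ≅
      DRing.toD (NLAmp.two (d.baseChange S'))) := by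
  have hK : KF.IsKFlat (NLAmp.two d) := KF.isKFlat_of_bounded_above (NLAmp.two d) 0
    (fun n hn => isZero_double_X _ _ n (by omega) (by omega)) fun n => NLAmp.termwiseFlat_two d n
  obtain ⟨e⟩ := KF.lBase_value (algebraMap S S') hK
  obtain ⟨a⟩ := nonempty_bc_two_aux ‹Algebra S S'› (algebraMap S S')
    (Algebra.algebra_ext _ _ fun _ => rfl) d
  exact ⟨e ≪≫ DerivedCategory.Q.mapIso a.symm⟩

end GrothLib.NLBC6
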