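import Groth.Agent.Lib.AlgSp.EtaleDescentSmooth
import Groth.Agent.Lib.IndEt.Algebra
import Groth.Agent.Lib.IndEt.Flat
import Mathlib.RingTheory.Kaehler.JacobiZariski
import Mathlib.RingTheory.Unramified.LocalStructure
import Mathlib.RingTheory.Localization.BaseChange

/-! # First cotangent homology of ind-étale extensions -/

set_option autoImplicit false
set_option maxHeartbeats 1000000
set_option backward.isDefEq.respectTransparency false
set_option linter.style.haveILetI false
universe u

open TensorProduct Algebra MvPolynomial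

namespace GrothLib.NLBC6

variable (R S T : Type u) [CommRing R] [CommRing S] [CommRing T] [Algebra R S] [Algebra R T] [Algebra S T]
  [IsScalarTower R S T]

/-- The base change map on first cotangent homology. -/
noncomputable def h1bc : T ⊗[S] H1Cotangent R S →ₗ[T] H1Cotangent R T :=
  (H1Cotangent.map R R S T).liftBaseChange T

/-- Naturality of the base change map. -/
theorem h1bc_naturality (V : Type u) [CommRing V] [Algebra R V] [Algebra S V] [IsScalarTower R S V]
    [Algebra V T] [IsScalarTower R V T] [IsScalarTower S V T] (x : V ⊗[S] H1Cotangent R S) :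
    H1Cotangent.map R R V T (h1bc R S V x) =
      h1bc R S T ((IsScalarTower.toAlgHom S V T).toLinearMap.rTensor (H1Cotangent R S) x) := by
  induction x with
  | zero => simp
  | add a b ha hb => simp only [map_add, ha, hb]
  | tmul t y =>
    simp only [h1bc, LinearMap.liftBaseChange_tmul, LinearMap.rTensor_tmul, map_smul, AlgHom.toLinearMap_apply,
      IsScalarTower.coe_toAlgHom', algebraMap_smul]
    congr 1
    simp only [H1Cotangent.map]
    rw [← Extension.H1Cotangent.map_comp_apply]
    exact LinearMap.congr_fun (Extension.H1Cotangent.map_eq _ _) y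

theorem h1bc_injective_of_standardEtale [Algebra.IsStandardEtale S T] : Function.Injective (h1bc R S T) := by
  let P : Algebra.Extension.{u} R S := (Algebra.Generators.self R S).toExtension
  have hsP : Algebra.FormallySmooth R P.Ring := inferInstanceAs (Algebra.FormallySmooth R (MvPolynomial S R))
  have hP : Function.Surjective (algebraMap P.Ring S) := P.algebraMap_surjective
  let _ : Algebra P.Ring T := ((algebraMap S T).comp (algebraMap P.Ring S)).toAlgebra
  have : IsScalarTower P.Ring S T := .of_algebraMap_eq' rfl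
  have : IsScalarTower R P.Ring T := .of_algebraMap_eq fun a => by
    rw [IsScalarTower.algebraMap_apply R S T, IsScalarTower.algebraMap_apply R P.Ring S]; rfl
  obtain ⟨Q, ψ, hψ, hker⟩ := GrothLib.AlgSp.EtaleDescent.exists_standardEtale_lift hP T
  let _ : Algebra R Q.Ring := ((algebraMap P.Ring Q.Ring).comp (algebraMap R P.Ring)).toAlgebra
  have : IsScalarTower R P.Ring Q.Ring := .of_algebraMap_eq' rfl
  let Q' : Algebra.Extension.{u} R T := .ofSurjective (ψ.restrictScalars R) hψ
  let f : P.Hom Q' :=
  { toRingHom := algebraMap P.Ring Q.Ring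
    toRingHom_algebraMap := fun _ => rfl
    algebraMap_toRingHom := fun p => ψ.commutes p }
  have : Algebra.FormallySmooth R Q'.Ring :=
    show Algebra.FormallySmooth R Q.Ring from .comp R P.Ring Q.Ring
  have : Module.Flat S T := inferInstance
  let _ : Algebra P.Ring Q'.Ring := (inferInstance : Algebra P.Ring Q.Ring)
  have h1 : f.toRingHom.FormallyEtale :=
    RingHom.formallyEtale_algebraMap.2 (inferInstance : Algebra.FormallyEtale P.Ring Q.Ring)
  haveI : Module.Flat P.Ring Q'.Ring := (inferInstance : Module.Flat P.Ring Q.Ring)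
  let e := Algebra.Extension.tensorH1CotangentOfFormallyEtale f rfl h1
    (GrothLib.AlgSp.EtaleDescent.bijective_mapKer f rfl hker)
  let g := (Algebra.Extension.defaultHom (P := Q'))
  haveI : Algebra.FormallySmooth R (Algebra.Generators.self R T).toExtension.Ring :=
    inferInstanceAs (Algebra.FormallySmooth R (MvPolynomial T R))
  have he : ∀ x, Extension.H1Cotangent.map g (h1bc R S T x) = e x := fun x => by
    show ((Extension.H1Cotangent.map g).comp (h1bc R S T)) x = ((Extension.H1Cotangent.map f).liftBaseChange T) x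
    refine LinearMap.congr_fun ?_ x
    refine TensorProduct.AlgebraTensorModule.ext fun t y => ?_
    simp only [LinearMap.comp_apply, h1bc, LinearMap.liftBaseChange_tmul, map_smul, H1Cotangent.map]
    congr 1
    rw [← Extension.H1Cotangent.map_comp_apply]
    exact LinearMap.congr_fun (Extension.H1Cotangent.map_eq _ _) y
  intro x y hxy
  exact e.injective (by rw [← he, ← he, hxy])

theorem h1bc_injective_of_etale [Algebra.Etale S T] : Function.Injective (h1bc R S T) := by
  rw [injective_iff_map_eq_zero]
  intro x hx
  by_contra hne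
  have hA : LinearMap.ker (LinearMap.toSpanSingleton T (T ⊗[S] H1Cotangent R S) x) ≠ ⊤ := fun h => hne (by
    have h1 : (1 : T) ∈ LinearMap.ker (LinearMap.toSpanSingleton T (T ⊗[S] H1Cotangent R S) x) := by
      rw [h]; trivial
    simpa using h1)
  obtain ⟨M, hM, hle⟩ := Ideal.exists_le_maximal _ hA
  haveI := hM.isPrime
  haveI : Algebra.IsEtaleAt S M := inferInstanceAs (Algebra.FormallyEtale S (Localization.AtPrime M))
  obtain ⟨g, hg, _⟩ := Algebra.IsEtaleAt.exists_isStandardEtale (R := S) M
  let V := Localization.Away g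
  have h0 : (IsScalarTower.toAlgHom S T V).toLinearMap.rTensor (H1Cotangent R S) x = 0 := by
    refine h1bc_injective_of_standardEtale R S V ?_
    rw [← h1bc_naturality R S V T x, hx, map_zero, map_zero]
  have h1 : TensorProduct.mk T V (T ⊗[S] H1Cotangent R S) 1 x = 0 := by
    apply (AlgebraTensorModule.cancelBaseChange S T V V (H1Cotangent R S)).injective
    rw [map_zero, ← h0]
    clear hx h0 hA hle hne
    induction x with
    | zero => simp
    | add a b ha hb => simp only [map_add, ha, hb]
    | tmul t y => simp [Algebra.smul_def]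
  obtain ⟨⟨_, k, rfl⟩, hk⟩ := (IsLocalizedModule.eq_zero_iff (Submonoid.powers g)
    (TensorProduct.mk T V (T ⊗[S] H1Cotangent R S) 1)).1 h1
  exact hg (hM.isPrime.mem_of_pow_mem k (hle (by
    rw [LinearMap.mem_ker, LinearMap.toSpanSingleton_apply]
    exact hk)))

/-- Lifting a relation in a square of the kernel to a finite stage. -/
theorem exists_list_of_mem_sq {A : Type u} [CommRing A] (I : Ideal A) {q : A} (hq : q ∈ I * I) :
    ∃ l : List (A × A), (∀ z ∈ l, z.1 ∈ I ∧ z.2 ∈ I) ∧ q = (l.map fun z => z.1 * z.2).sum := by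
  refine Submodule.mul_induction_on hq (fun a ha b hb => ⟨[(a, b)], by simp [ha, hb], by simp⟩) ?_
  rintro x y ⟨l, hl, rfl⟩ ⟨l', hl', rfl⟩
  exact ⟨l ++ l', fun z hz => (List.mem_append.1 hz).elim (hl z) (hl' z), by simp⟩

theorem mk_val_eq_zero_iff {A : Type u} [CommRing A] [Algebra R A] {p : MvPolynomial A R}
    (hp : p ∈ (Generators.self R A).toExtension.ker) :
    Extension.Cotangent.mk (P := (Generators.self R A).toExtension) ⟨p, hp⟩ = 0 ↔
      p ∈ (Generators.self R A).toExtension.ker * (Generators.self R A).toExtension.ker := by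
  rw [Extension.Cotangent.ext_iff, Extension.Cotangent.val_mk, Extension.Cotangent.val_zero,
    Ideal.toCotangent_eq_zero, pow_two]

theorem mem_ker_self_iff {A : Type u} [CommRing A] [Algebra R A] (p : MvPolynomial A R) :
    p ∈ (Generators.self R A).toExtension.ker ↔ MvPolynomial.aeval (fun a : A => a) p = 0 := by
  rw [show (Generators.self R A).toExtension.ker = RingHom.ker (MvPolynomial.aeval (Generators.self R A).val) from
    (Generators.self R A).ker_eq_ker_aeval_val]
  rfl

theorem h1map_val {A A' : Type u} [CommRing A] [CommRing A'] [Algebra R A] [Algebra R A'] [Algebra A A']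
    [IsScalarTower R A A'] (z : H1Cotangent R A) {p : MvPolynomial A R}
    (hp : p ∈ (Generators.self R A).toExtension.ker) (hz : z.1 = Extension.Cotangent.mk ⟨p, hp⟩) :
    ∃ hp', (H1Cotangent.map R R A A' z).1 = Extension.Cotangent.mk (P := (Generators.self R A').toExtension)
      ⟨MvPolynomial.rename (algebraMap A A') p, hp'⟩ := by
  have hf : ∀ q : MvPolynomial A R, ((Generators.self R A).defaultHom (Generators.self R A')).toAlgHom q =
      MvPolynomial.rename (algebraMap A A') q := fun q => by
    induction q using MvPolynomial.induction_on with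
    | C a => simp [Generators.Hom.toAlgHom]
    | add x y hx hy => simp only [map_add, hx, hy]
    | mul_X x i hx =>
      rw [map_mul, map_mul, hx, Generators.Hom.toAlgHom_X, MvPolynomial.rename_X]
      rfl
  refine ⟨?_, ?_⟩
  · rw [mem_ker_self_iff] at hp ⊢
    rw [MvPolynomial.aeval_rename]
    have := congrArg (IsScalarTower.toAlgHom R A A') hp
    rw [MvPolynomial.comp_aeval_apply, map_zero] at this
    exact this
  · show Extension.Cotangent.map _ z.1 = _
    rw [hz, Extension.Cotangent.map_mk]
    congr 1
    exact Subtype.ext (hf p)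

theorem h1bc_injective_of_indEtale (h : EtPBC.IsIndEtale S T) : Function.Injective (h1bc R S T) := by
  classical
  rw [injective_iff_map_eq_zero]
  intro x hx
  obtain ⟨F, rfl⟩ := TensorProduct.exists_finset x
  obtain ⟨V, _, _, _, v, s, hs⟩ := GrothLib.IndEt.exists_etale_lift h
    (fun i : Fin F.card => ((F.equivFin.symm i).1).1)
  let x' : V ⊗[S] H1Cotangent R S := ∑ i, s i ⊗ₜ ((F.equivFin.symm i).1).2
  have hx' : v.toLinearMap.rTensor (H1Cotangent R S) x' = ∑ i ∈ F, i.1 ⊗ₜ i.2 := by
    simp only [x', map_sum, LinearMap.rTensor_tmul, AlgHom.toLinearMap_apply, hs]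
    rw [← Finset.sum_coe_sort F]
    exact F.equivFin.symm.sum_comp fun z : F => (z.1.1 ⊗ₜ[S] z.1.2 : T ⊗[S] H1Cotangent R S)
  letI : Algebra R V := Algebra.compHom V (algebraMap R S)
  haveI : IsScalarTower R S V := .of_algebraMap_eq fun _ => rfl
  letI : Algebra V T := v.toRingHom.toAlgebra
  haveI : IsScalarTower S V T := .of_algebraMap_eq fun a => (v.commutes a).symm
  haveI : IsScalarTower R V T := .of_algebraMap_eq fun a => by
    rw [IsScalarTower.algebraMap_apply R S V, ← IsScalarTower.algebraMap_apply S V T,
      ← IsScalarTower.algebraMap_apply R S T]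
  let z := h1bc R S V x'
  have hzT : H1Cotangent.map R R V T z = 0 := by
    rw [h1bc_naturality]
    exact (congrArg _ hx').trans hx
  obtain ⟨⟨p, hp⟩, hpz⟩ := Extension.Cotangent.mk_surjective z.1
  obtain ⟨hp', hv⟩ := h1map_val R (A' := T) z hp hpz.symm
  rw [hzT] at hv
  obtain ⟨l, hl, hleq⟩ := exists_list_of_mem_sq _ ((mk_val_eq_zero_iff R hp').1 hv.symm)
  let U : Finset T := p.vars.image v ∪ (l.toFinset.biUnion fun ab => ab.1.vars ∪ ab.2.vars)
  let incl : U → T := Subtype.val
  let Z := MvPolynomial U V
  let g : Z →ₐ[S] T :=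
    { MvPolynomial.eval₂Hom (algebraMap V T) incl with
      commutes' := fun a => by
        show MvPolynomial.eval₂Hom _ _ (algebraMap S Z a) = _
        rw [IsScalarTower.algebraMap_apply S V Z]
        simp [Z, ← IsScalarTower.algebraMap_apply] }
  obtain ⟨V', _, _, _, a, b, hab⟩ := GrothLib.IndEt.exists_etale h g
  letI : Algebra R V' := Algebra.compHom V' (algebraMap R S)
  haveI : IsScalarTower R S V' := .of_algebraMap_eq fun _ => rfl
  let s₀ : U → V' := fun t => a (MvPolynomial.X t)
  have hs₀ : ∀ t, b (s₀ t) = incl t := fun t => by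
    show b.comp a (MvPolynomial.X t) = _
    rw [hab]
    exact MvPolynomial.eval₂Hom_X' _ _ _
  have hbC : ∀ c : V, b (a (MvPolynomial.C c)) = v c := fun c => by
    show b.comp a (MvPolynomial.C c) = _
    rw [hab]
    exact MvPolynomial.eval₂Hom_C _ _ _
  have hsub : ∀ ab ∈ l, (↑ab.1.vars ⊆ Set.range incl) ∧ (↑ab.2.vars ⊆ Set.range incl) := fun ab hab => by
    constructor <;> intro t ht <;>
      exact ⟨⟨t, Finset.mem_union_right _ (Finset.mem_biUnion.2 ⟨ab, List.mem_toFinset.2 hab,
        by simp [Finset.mem_coe.1 ht]⟩)⟩, rfl⟩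
  choose la hla using fun ab : {ab // ab ∈ l} =>
    MvPolynomial.exists_rename_eq_of_vars_subset_range ab.1.1 incl Subtype.val_injective (hsub ab.1 ab.2).1
  choose lb hlb using fun ab : {ab // ab ∈ l} =>
    MvPolynomial.exists_rename_eq_of_vars_subset_range ab.1.2 incl Subtype.val_injective (hsub ab.1 ab.2).2
  let rel : ({ab // ab ∈ l} ⊕ {ab // ab ∈ l}) ⊕ p.vars → V' :=
    Sum.elim (Sum.elim (fun ab => MvPolynomial.aeval s₀ (la ab)) fun ab => MvPolynomial.aeval s₀ (lb ab))
      fun c => a (MvPolynomial.C c.1) -
        s₀ ⟨v c.1, Finset.mem_union_left _ (Finset.mem_image_of_mem _ c.2)⟩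
  have hbR : ∀ q : MvPolynomial U R, b (MvPolynomial.aeval s₀ q) = MvPolynomial.aeval incl q := fun q => by
    rw [show b (MvPolynomial.aeval s₀ q) = (b.restrictScalars R) (MvPolynomial.aeval s₀ q) from rfl,
      MvPolynomial.comp_aeval_apply]
    exact congrArg (fun k => MvPolynomial.aeval k q) (funext hs₀)
  have hrel : ∀ k, b (rel k) = 0 := by
    rintro ((ab | ab) | c)
    · show b (MvPolynomial.aeval s₀ (la ab)) = 0
      rw [hbR, ← (mem_ker_self_iff R _).1 (hl ab.1 ab.2).1, ← hla ab, MvPolynomial.aeval_rename]
      rfl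
    · show b (MvPolynomial.aeval s₀ (lb ab)) = 0
      rw [hbR, ← (mem_ker_self_iff R _).1 (hl ab.1 ab.2).2, ← hlb ab, MvPolynomial.aeval_rename]
      rfl
    · show b (_ - _) = 0
      rw [map_sub, hbC, hs₀, sub_self]
  obtain ⟨W, _, _, _, a', b', hb', hkill⟩ := GrothLib.IndEt.exists_etale_ker h b rel hrel
  letI : Algebra R W := Algebra.compHom W (algebraMap R S)
  haveI : IsScalarTower R S W := .of_algebraMap_eq fun _ => rfl
  let aC : V →ₐ[S] V' := a.comp (IsScalarTower.toAlgHom S V Z)
  let w : V →ₐ[S] W := a'.comp aC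
  letI : Algebra V W := w.toRingHom.toAlgebra
  haveI : IsScalarTower S V W := .of_algebraMap_eq fun c => (w.commutes c).symm
  haveI : IsScalarTower R V W := .of_algebraMap_eq fun c => by
    rw [IsScalarTower.algebraMap_apply R S V, ← IsScalarTower.algebraMap_apply S V W,
      ← IsScalarTower.algebraMap_apply R S W]
  let sW : U → W := fun t => a' (s₀ t)
  have hkerW : ∀ q : MvPolynomial U R, a' (MvPolynomial.aeval s₀ q) = 0 →
      MvPolynomial.rename sW q ∈ (Generators.self R W).toExtension.ker := fun q hq => by
    rw [mem_ker_self_iff, MvPolynomial.aeval_rename]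
    refine Eq.trans ?_ hq
    rw [show a' (MvPolynomial.aeval s₀ q) = (a'.restrictScalars R) (MvPolynomial.aeval s₀ q) from rfl,
      MvPolynomial.comp_aeval_apply]
    rfl
  obtain ⟨p₀, hp₀⟩ := MvPolynomial.exists_rename_eq_of_vars_subset_range p (Subtype.val : p.vars → V)
    Subtype.val_injective (by simp)
  let toU : p.vars → U := fun c => ⟨v c.1, Finset.mem_union_left _ (Finset.mem_image_of_mem _ c.2)⟩
  have hkey : MvPolynomial.rename toU p₀ = (l.attach.map fun ab => la ab * lb ab).sum := by
    apply MvPolynomial.rename_injective incl Subtype.val_injective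
    rw [MvPolynomial.rename_rename, map_list_sum, List.map_map]
    have e1 : MvPolynomial.rename (incl ∘ toU) p₀ = MvPolynomial.rename (algebraMap V T) p := by
      have := congrArg (MvPolynomial.rename (algebraMap V T)) hp₀
      rw [MvPolynomial.rename_rename] at this
      exact this
    rw [e1, hleq]
    conv_lhs => rw [← List.attach_map_subtype_val l, List.map_map]
    refine congrArg List.sum (List.map_congr_left fun ab _ => ?_)
    simp [hla, hlb]
  have hW : MvPolynomial.rename (algebraMap V W) p ∈
      (Generators.self R W).toExtension.ker * (Generators.self R W).toExtension.ker := by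
    have e2 : MvPolynomial.rename (algebraMap V W) p = MvPolynomial.rename sW (MvPolynomial.rename toU p₀) := by
      have h2 := congrArg (MvPolynomial.rename (algebraMap V W)) hp₀
      rw [MvPolynomial.rename_rename] at h2
      rw [MvPolynomial.rename_rename]
      refine h2.symm.trans (congrArg (fun k => MvPolynomial.rename k p₀) (funext fun c => ?_))
      have : a' (a (MvPolynomial.C c.1) - s₀ (toU c)) = 0 := hkill (Sum.inr c)
      rw [map_sub, sub_eq_zero] at this
      exact this
    rw [e2, hkey, map_list_sum, List.map_map]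
    refine list_sum_mem fun y hy => ?_
    obtain ⟨ab, -, rfl⟩ := List.mem_map.1 hy
    simp only [Function.comp_apply, map_mul]
    exact Ideal.mul_mem_mul (hkerW _ (hkill (Sum.inl (Sum.inl ab)))) (hkerW _ (hkill (Sum.inl (Sum.inr ab))))
  obtain ⟨hpW, hvW⟩ := h1map_val R (A' := W) z hp hpz.symm
  have hzW : H1Cotangent.map R R V W z = 0 := Subtype.ext (hvW.trans ((mk_val_eq_zero_iff R hpW).2 hW))
  have hxW : (IsScalarTower.toAlgHom S V W).toLinearMap.rTensor (H1Cotangent R S) x' = 0 := by
    apply h1bc_injective_of_etale R S W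
    rw [← h1bc_naturality, hzW, map_zero]
  have hv' : v.toLinearMap = b'.toLinearMap.comp (IsScalarTower.toAlgHom S V W).toLinearMap := by
    refine LinearMap.ext fun c => ?_
    show v c = b' (a' (a (algebraMap V Z c)))
    rw [← AlgHom.comp_apply, hb', ← hbC]
    rfl
  rw [← hx', hv', LinearMap.rTensor_comp, LinearMap.comp_apply, hxW, map_zero]

/-- Base change of first cotangent homology along ind-étale algebras. -/
theorem h1bc_bijective_of_indEtale (h : EtPBC.IsIndEtale S T) [Algebra.FormallyEtale S T] :
    Function.Bijective (h1bc R S T) := by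
  haveI := GrothLib.IndEt.flat h
  refine ⟨h1bc_injective_of_indEtale R S T h, fun y => ?_⟩
  exact (H1Cotangent.exact_liftBaseChange_map_of_flat (R := R) (S := S) (T := T) y).1 (Subsingleton.elim _ _)

end GrothLib.NLBC6
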