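import Groth.Agent.Lib.NLBC6.Complex
import Groth.Agent.Lib.NLAmp.Main
import Groth.Agent.Lib.CotSchanuel.Basic

/-! # The kernel of base change on the first cotangent homology of LCI algebras -/

set_option autoImplicit false
set_option maxHeartbeats 1000000
set_option backward.isDefEq.respectTransparency false
set_option linter.style.haveILetI false
universe u

open CategoryTheory TensorProduct Algebra

attribute [local instance] HasDerivedCategory.standard

namespace GrothLib.NLBC6

theorem finite_projective_cotangent {A B : Type u} [CommRing A] [CommRing B] [Algebra A B] (h : LCI.IsLCI A B)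
    {ι : Type u} [Finite ι] (G : Generators A B ι) :
    Module.Finite B G.toExtension.Cotangent ∧ Module.Projective B G.toExtension.Cotangent := by
  obtain ⟨-, n, α, hα, hI⟩ := h
  let E := NLAmp.ext α hα
  have hker : LCI.IsKoszulRegularIdeal E.ker := by rw [NLAmp.ker_ext]; exact hI
  have hfg : E.ker.FG := LCI6.fg_of_isKoszulRegularIdeal hker
  haveI : Module.Finite E.Ring E.ker := Module.Finite.iff_fg.mpr hfg
  haveI : Module.Finite E.Ring E.Cotangent :=
    Module.Finite.of_surjective Algebra.Extension.Cotangent.mk Algebra.Extension.Cotangent.mk_surjective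
  haveI : Module.Finite B E.Cotangent := Module.Finite.of_restrictScalars_finite E.Ring _ _
  haveI := NLAmp.projective_cotangent_of_koszul E.ker hker
  haveI : Module.Projective B E.Cotangent := by
    refine NLAmp.projective_of_semilinear (NLAmp.quotKer E) E.cotangentEquivCotangentKer.symm.toAddEquiv
      fun s x => ?_
    obtain ⟨p, rfl⟩ := Ideal.Quotient.mk_surjective s
    rw [show NLAmp.quotKer E (Ideal.Quotient.mk E.ker p) = algebraMap E.Ring B p from rfl, algebraMap_smul]
    exact E.cotangentEquivCotangentKer.symm.map_smul p x
  haveI : Module.Finite B E.CotangentSpace :=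
    Module.Finite.of_basis (Generators.ofAlgHom α hα).cotangentSpaceBasis
  haveI : Module.Free B E.CotangentSpace :=
    Module.Free.of_basis (Generators.ofAlgHom α hα).cotangentSpaceBasis
  haveI : Module.Finite B G.toExtension.CotangentSpace := Module.Finite.of_basis G.cotangentSpaceBasis
  haveI : Module.Free B G.toExtension.CotangentSpace := Module.Free.of_basis G.cotangentSpaceBasis
  haveI : FormallySmooth A G.toExtension.Ring := inferInstanceAs (FormallySmooth A (MvPolynomial ι A))
  haveI : FormallySmooth A E.Ring := inferInstanceAs (FormallySmooth A (MvPolynomial (Fin n) A))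
  obtain ⟨e⟩ := GrothLib.CotSchanuel.nonempty_cotangent_prod_equiv G.toExtension E
  let s : G.toExtension.Cotangent →ₗ[B] E.Cotangent × G.toExtension.CotangentSpace :=
    e.toLinearMap.comp (LinearMap.inl B _ _)
  let r : E.Cotangent × G.toExtension.CotangentSpace →ₗ[B] G.toExtension.Cotangent :=
    (LinearMap.fst B _ _).comp e.symm.toLinearMap
  have hrs : r.comp s = LinearMap.id := LinearMap.ext fun x => by simp [r, s]
  exact ⟨Module.Finite.of_surjective r fun x => ⟨s x, LinearMap.congr_fun hrs x⟩,
    Module.Projective.of_split s r hrs⟩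

theorem exists_generators {A B : Type u} [CommRing A] [CommRing B] [Algebra A B] (h : LCI.IsLCI A B) :
    ∃ (ι : Type u) (_ : Finite ι), Nonempty (Generators A B ι) := by
  obtain ⟨-, n, α, hα, -⟩ := h
  refine ⟨ULift.{u} (Fin n), inferInstance, ⟨Generators.ofSurjective (fun i => α (MvPolynomial.X i.down)) ?_⟩⟩
  intro b
  obtain ⟨p, rfl⟩ := hα b
  refine ⟨MvPolynomial.rename ULift.up p, ?_⟩
  rw [MvPolynomial.aeval_rename]
  exact (DFunLike.congr_fun (MvPolynomial.aeval_unique α) p).symm

section

variable {R S R' S' : Type u} [CommRing R] [CommRing S] [CommRing R'] [CommRing S'] [Algebra R S]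
  [Algebra R' S'] [Algebra R R'] [Algebra S S'] [Algebra R S'] [IsScalarTower R R' S'] [IsScalarTower R S S']

variable (S') in
/-- Change of presentation on the tensored first homology. -/
noncomputable def bcH1Change {P Q : Extension.{u} R S} (a : P.Hom Q) : NLCx.bcH1 P S' →ₗ[S'] NLCx.bcH1 Q S' :=
  ((Extension.Cotangent.map a).baseChange S').restrict fun x hx => by
    simp only [NLCx.bcH1, LinearMap.mem_ker] at hx ⊢
    have : (Q.cotangentComplex.baseChange S').comp ((Extension.Cotangent.map a).baseChange S') =
        ((Extension.CotangentSpace.map a).baseChange S').comp (P.cotangentComplex.baseChange S') := by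
      rw [← LinearMap.baseChange_comp, ← LinearMap.baseChange_comp]
      congr 1
      exact LinearMap.ext fun y => (Extension.CotangentSpace.map_cotangentComplex a y).symm
    refine (LinearMap.congr_fun this x).trans ?_
    rw [LinearMap.comp_apply, hx, map_zero]

theorem bcH1Change_comp_self {P Q : Extension.{u} R S} (a : P.Hom Q) (b : Q.Hom P) (x : NLCx.bcH1 P S') :
    bcH1Change S' b (bcH1Change S' a x) = x := by
  obtain ⟨x, hx⟩ := x
  refine Subtype.ext ?_
  have h : ((Extension.Cotangent.map b).baseChange S').comp ((Extension.Cotangent.map a).baseChange S') =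
      LinearMap.id + (((b.comp a).sub (.id P)).baseChange S').comp (P.cotangentComplex.baseChange S') := by
    rw [← LinearMap.baseChange_comp, ← LinearMap.baseChange_comp, ← LinearMap.baseChange_id,
      ← LinearMap.baseChange_add]
    congr 1
    rw [← Extension.Cotangent.map_sub_map, Extension.Cotangent.map_id]
    refine LinearMap.ext fun y => ?_
    simp [Extension.Cotangent.map_comp]
  simp only [NLCx.bcH1, LinearMap.mem_ker] at hx
  refine (LinearMap.congr_fun h x).trans ?_
  rw [LinearMap.add_apply, LinearMap.comp_apply, hx, map_zero, add_zero]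
  rfl

theorem bcH1Map_change {P Q : Extension.{u} R S} {P' : Extension.{u} R' S'} (a : P.Hom Q) (f : Q.Hom P') :
    NLCx.bcH1Map (S' := S') (f.comp a) = (NLCx.bcH1Map f).comp (bcH1Change S' a) := by
  ext ⟨x, hx⟩ : 1
  refine Subtype.ext ?_
  show LinearMap.liftBaseChange S' (Extension.Cotangent.map (f.comp a)) x =
    LinearMap.liftBaseChange S' (Extension.Cotangent.map f) ((Extension.Cotangent.map a).baseChange S' x)
  rw [← LinearMap.comp_apply]
  refine LinearMap.congr_fun ?_ x
  ext y
  simp [Extension.Cotangent.map_comp]

end

theorem ker_finite_projective (A B A' B' : Type u) [CommRing A] [CommRing B] [CommRing A'] [CommRing B']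
    [Algebra A B] [Algebra A' B'] [Algebra A A'] [Algebra B B'] [Algebra A B'] [IsScalarTower A A' B']
    [IsScalarTower A B B'] [Algebra.IsPushout A A' B B'] (hB : LCI.IsLCI A B) (hB' : LCI.IsLCI A' B') :
    Module.Finite B' (LinearMap.ker (NLCx.bcH1Map (S' := B')
        ((Generators.self A B).defaultHom (Generators.self A' B')).toExtensionHom)) ∧
      Module.Projective B' (LinearMap.ker (NLCx.bcH1Map (S' := B')
        ((Generators.self A B).defaultHom (Generators.self A' B')).toExtensionHom)) := by
  obtain ⟨ι, _, ⟨G⟩⟩ := exists_generators hB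
  let G' := bcGen A' G (S' := B')
  let f := (NLCx.sameVarsHom G G' (bcGen_val A' G)).toExtensionHom
  obtain ⟨_, _⟩ := finite_projective_cotangent hB G
  obtain ⟨_, _⟩ := finite_projective_cotangent hB' G'
  let φ := LinearMap.liftBaseChange B' (Extension.Cotangent.map f)
  have hsurj : Function.Surjective φ := cotangent_surjective _ _ _
  obtain ⟨s, hs⟩ := Module.projective_lifting_property φ LinearMap.id hsurj
  let r : (B' ⊗[B] G.toExtension.Cotangent) →ₗ[B'] LinearMap.ker φ :=
    (LinearMap.id - s.comp φ).codRestrict (LinearMap.ker φ) fun x => by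
      have := LinearMap.congr_fun hs (φ x)
      simp only [LinearMap.comp_apply, LinearMap.id_apply] at this
      simp [this]
  have hr : r.comp (LinearMap.ker φ).subtype = LinearMap.id := LinearMap.ext fun ⟨x, hx⟩ => by
    refine Subtype.ext ?_
    simp only [r, LinearMap.comp_apply, Submodule.subtype_apply, LinearMap.codRestrict_apply, LinearMap.sub_apply,
      LinearMap.id_apply, LinearMap.mem_ker.1 hx, map_zero, sub_zero]
  haveI : Module.Finite B' (LinearMap.ker φ) :=
    Module.Finite.of_surjective r fun x => ⟨x, LinearMap.congr_fun hr x⟩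
  haveI : Module.Projective B' (LinearMap.ker φ) := Module.Projective.of_split (LinearMap.ker φ).subtype r hr
  let a := ((Generators.self A B).defaultHom G).toExtensionHom
  let b := (G.defaultHom (Generators.self A B)).toExtensionHom
  let e := (G'.defaultHom (Generators.self A' B')).toExtensionHom
  let e' := ((Generators.self A' B').defaultHom G').toExtensionHom
  let H := Extension.H1Cotangent.equiv e e'
  have hkey : NLCx.bcH1Map (S' := B') ((Generators.self A B).defaultHom (Generators.self A' B')).toExtensionHom =
      H.toLinearMap.comp ((NLCx.bcH1Map f).comp (bcH1Change B' a)) := by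
    rw [bcH1Map_eq _ (e.comp (f.comp a)), bcH1Map_comp, bcH1Map_change]
    rfl
  have h1 : ∀ x : B' ⊗[B] G.toExtension.Cotangent, φ x = 0 → x ∈ NLCx.bcH1 G.toExtension B' := fun x hx => by
    refine (cotangentSpace_bijective G G' (bcGen_val A' G)).1 ?_
    rw [map_zero, ← LinearMap.comp_apply]
    refine Eq.trans (LinearMap.congr_fun (?_ : _ = (G'.toExtension.cotangentComplex.comp φ)) x)
      (by rw [LinearMap.comp_apply, hx, map_zero])
    ext z
    simpa [φ] using Extension.CotangentSpace.map_cotangentComplex f z
  let E : LinearMap.ker (NLCx.bcH1Map (S' := B')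
      ((Generators.self A B).defaultHom (Generators.self A' B')).toExtensionHom) ≃ₗ[B'] LinearMap.ker φ :=
    { toFun := fun x => ⟨(bcH1Change B' a x.1).1, by
        have hx := (LinearMap.congr_fun hkey x.1).symm.trans (LinearMap.mem_ker.1 x.2)
        rw [LinearMap.comp_apply, LinearEquiv.coe_coe, LinearEquiv.map_eq_zero_iff] at hx
        exact congrArg Subtype.val hx⟩
      map_add' := fun x y => by ext; simp
      map_smul' := fun c x => by ext; simp
      invFun := fun y => ⟨bcH1Change B' b ⟨y.1, h1 y.1 y.2⟩, by
        rw [LinearMap.mem_ker, hkey, LinearMap.comp_apply, LinearMap.comp_apply, bcH1Change_comp_self,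
          LinearEquiv.coe_coe, LinearEquiv.map_eq_zero_iff]
        exact Subtype.ext y.2⟩
      left_inv := fun x => Subtype.ext (bcH1Change_comp_self a b x.1)
      right_inv := fun y => Subtype.ext (congrArg (fun z : NLCx.bcH1 G.toExtension B' => z.1) (bcH1Change_comp_self b a ⟨y.1, h1 y.1 y.2⟩) :) }
  exact ⟨Module.Finite.equiv E.symm, Module.Projective.of_equiv E.symm⟩

end GrothLib.NLBC6
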