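import Groth.Agent.Lib.NLBC6.IndEtale
import Groth.Agent.Lib.NLBC6.Complex
import Groth.Agent.Lib.H1Sheaf6.Ring
import Groth.Agent.Lib.RGamma.Classes
import Mathlib.RingTheory.Etale.Kaehler

/-! # Base change of naive cotangent complexes along ind-étale squares -/

set_option autoImplicit false
set_option maxHeartbeats 1000000
set_option backward.isDefEq.respectTransparency false
set_option linter.style.haveILetI false
universe u

open CategoryTheory CategoryTheory.Limits TensorProduct Algebra HomologicalComplex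

attribute [local instance] HasDerivedCategory.standard

namespace GrothLib.NLBC6

/-- Elementwise criterion for a map of two-term complexes to be a quasi-isomorphism. -/
theorem quasiIso_twoHom {S : Type u} [CommRing S] {M F M' F' : Type u} [AddCommGroup M] [Module S M]
    [AddCommGroup F] [Module S F] [AddCommGroup M'] [Module S M'] [AddCommGroup F'] [Module S F']
    (d : M →ₗ[S] F) (d' : M' →ₗ[S] F') (φ₀ : M →ₗ[S] M') (φ₁ : F →ₗ[S] F') (w : d'.comp φ₀ = φ₁.comp d)
    (h1 : ∀ x, d x = 0 → φ₀ x = 0 → x = 0) (h2 : ∀ y, d' y = 0 → ∃ x, d x = 0 ∧ φ₀ x = y)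
    (h3 : ∀ a, φ₁ a ∈ LinearMap.range d' → a ∈ LinearMap.range d)
    (h4 : ∀ b, ∃ a, φ₁ a - b ∈ LinearMap.range d') :
    QuasiIso (NLAmp.twoHom d d' φ₀ φ₁ w) := by
  let f := NLAmp.twoHom d d' φ₀ φ₁ w
  let a₀ := doubleXIso₀ (ModuleCat.ofHom d) NLAmp.rel_neg_one
  let a₁ := doubleXIso₁ (ModuleCat.ofHom d) NLAmp.rel_neg_one NLAmp.neg_one_ne
  let b₀ := doubleXIso₀ (ModuleCat.ofHom d') NLAmp.rel_neg_one
  let b₁ := doubleXIso₁ (ModuleCat.ofHom d') NLAmp.rel_neg_one NLAmp.neg_one_ne
  have hf₀ : ∀ x, b₀.hom (f.f (-1) x) = φ₀ (a₀.hom x) := fun x => by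
    show ((NLAmp.twoHom d d' φ₀ φ₁ w).f (-1) ≫ b₀.hom) x = _
    rw [NLAmp.twoHom, mkHomFromDouble_f₀]
    simp [a₀, b₀]
  have hf₁ : ∀ x, b₁.hom (f.f 0 x) = φ₁ (a₁.hom x) := fun x => by
    show ((NLAmp.twoHom d d' φ₀ φ₁ w).f 0 ≫ b₁.hom) x = _
    rw [NLAmp.twoHom, mkHomFromDouble_f₁]
    simp [a₁, b₁]
  have hdK : ∀ x, a₁.hom ((NLAmp.two d).d (-1) 0 x) = d (a₀.hom x) := fun x => by
    show ((NLAmp.two d).d (-1) 0 ≫ a₁.hom) x = _
    rw [double_d _ _ NLAmp.neg_one_ne]
    simp [a₀, a₁]
  have hdL : ∀ x, b₁.hom ((NLAmp.two d').d (-1) 0 x) = d' (b₀.hom x) := fun x => by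
    show ((NLAmp.two d').d (-1) 0 ≫ b₁.hom) x = _
    rw [double_d _ _ NLAmp.neg_one_ne]
    simp [b₀, b₁]
  have inj : ∀ {P Q : ModuleCat.{u} S} (e : P ≅ Q) {x y : P}, e.hom x = e.hom y → x = y :=
    fun e x y h => e.toLinearEquiv.injective h
  have sur : ∀ {P Q : ModuleCat.{u} S} (e : P ≅ Q) (y : Q), ∃ x, e.hom x = y :=
    fun e y => e.toLinearEquiv.surjective y
  refine GrothLib.RGamma.quasiIso_iff_cocycles f |>.2 ⟨fun i n hi y hy => ?_, fun i n hi x hx hw => ?_⟩
  · by_cases hn : n = -1
    · subst hn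
      have hy' : d' (b₀.hom y) = 0 := by rw [← hdL]; erw [hy]; exact map_zero b₁.hom.hom
      obtain ⟨x, hx, hxy⟩ := h2 _ hy'
      obtain ⟨x', rfl⟩ := sur a₀ x
      have e : f.f (-1) x' = y := inj b₀ ((hf₀ x').trans hxy)
      refine ⟨x', inj a₁ ((hdK x').trans (hx.trans (map_zero a₁.hom.hom).symm)), 0, ?_⟩
      rw [map_zero, e, sub_self]
    by_cases hn₀ : n = 0
    · subst hn₀
      obtain rfl : i = -1 := by omega
      obtain ⟨a, b, hb⟩ := h4 (b₁.hom y)
      obtain ⟨a', rfl⟩ := sur a₁ a
      obtain ⟨b', rfl⟩ := sur b₀ b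
      refine ⟨a', ?_, b', inj b₁ ?_⟩
      · rw [double_d_eq_zero₀ _ _ _ _ (Ne.symm NLAmp.neg_one_ne)]
        rfl
      · rw [hdL, hb, map_sub, hf₁]
    haveI := ModuleCat.subsingleton_of_isZero (NLAmp.vanishesOutside_two d' n (by omega))
    exact ⟨0, map_zero _, 0, Subsingleton.elim _ _⟩
  · by_cases hn : n = -1
    · subst hn
      obtain ⟨w', hw⟩ := hw
      haveI := ModuleCat.subsingleton_of_isZero (NLAmp.vanishesOutside_two d' i (by omega))
      rw [Subsingleton.elim w' 0, map_zero] at hw
      have hd : d (a₀.hom x) = 0 := by rw [← hdK]; erw [hx]; exact map_zero a₁.hom.hom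
      refine ⟨0, inj a₀ ?_⟩
      rw [map_zero, map_zero, h1 _ hd (by rw [← hf₀, ← hw, map_zero])]
    by_cases hn₀ : n = 0
    · subst hn₀
      obtain rfl : i = -1 := by omega
      obtain ⟨w', hw⟩ := hw
      obtain ⟨v, hv⟩ := h3 (a₁.hom x) ⟨b₀.hom w', by rw [← hdL, hw, hf₁]⟩
      obtain ⟨v', rfl⟩ := sur a₀ v
      exact ⟨v', inj a₁ ((hdK v').trans hv)⟩
    haveI := ModuleCat.subsingleton_of_isZero (NLAmp.vanishesOutside_two d n (by omega))
    exact ⟨0, Subsingleton.elim _ _⟩

/-- Naturality of the projection to differentials, on the standard basis. -/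
theorem toKaehler_map_basis {R S R' S' : Type u} [CommRing R] [CommRing S] [CommRing R'] [CommRing S']
    [Algebra R S] [Algebra R' S'] [Algebra R R'] [Algebra S S'] [Algebra R S'] [IsScalarTower R R' S']
    [IsScalarTower R S S'] {ι ι' : Type u} (G : Generators R S ι) (G' : Generators R' S' ι') (g : G.Hom G')
    (i : ι) :
    G'.toExtension.toKaehler (Extension.CotangentSpace.map g.toExtensionHom (G.cotangentSpaceBasis i)) =
      KaehlerDifferential.map R R' S S' (G.toExtension.toKaehler (G.cotangentSpaceBasis i)) := by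
  rw [G.toKaehler_cotangentSpaceBasis, KaehlerDifferential.map_D, Generators.cotangentSpaceBasis_apply]
  have e1 := Extension.CotangentSpace.map_tmul g.toExtensionHom (1 : S) (MvPolynomial.X i : MvPolynomial ι R)
  refine (congrArg G'.toExtension.toKaehler e1).trans ?_
  rw [map_one]
  refine (KaehlerDifferential.mapBaseChange_tmul R' G'.toExtension.Ring S' _ _).trans ?_
  rw [one_smul, KaehlerDifferential.map_D]
  congr 1
  show algebraMap G'.Ring S' (g.toAlgHom (MvPolynomial.X i)) = _
  rw [Generators.Hom.toAlgHom_X, Generators.algebraMap_apply, g.aeval_val]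

section

variable (A B A' B' : Type u) [CommRing A] [CommRing B] [CommRing A'] [CommRing B'] [Algebra A B]
  [Algebra A' B'] [Algebra A A'] [Algebra B B'] [Algebra A B'] [IsScalarTower A A' B'] [IsScalarTower A B B']

/-- The base change map is a quasi-isomorphism for ind-étale squares. -/
theorem quasiIso_bcMapSelf_of_indEtale (hA : FormallyEtale A A') (hB : EtPBC.IsIndEtale B B')
    (hB' : FormallyEtale B B') : QuasiIso (NLCx.bcMapSelf A B A' B') := by
  haveI := GrothLib.IndEt.flat hB
  let P := (Generators.self A B).toExtension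
  let P' := (Generators.self A' B').toExtension
  let f := ((Generators.self A B).defaultHom (Generators.self A' B')).toExtensionHom
  let φ₀ := LinearMap.liftBaseChange B' (Extension.Cotangent.map f)
  let φ₁ := LinearMap.liftBaseChange B' (Extension.CotangentSpace.map f)
  let dd := P.cotangentComplex.baseChange B'
  -- degree `-1`
  let ιH : B' ⊗[B] P.H1Cotangent →ₗ[B'] B' ⊗[B] P.Cotangent := Extension.h1Cotangentι.baseChange B'
  have hι : Function.Exact ιH dd := Module.Flat.lTensor_exact B' (LinearMap.exact_subtype_ker_map _)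
  have hιinj : Function.Injective ιH :=
    Module.Flat.lTensor_preserves_injective_linearMap _ Extension.h1Cotangentι_injective
  have hw : P'.cotangentComplex ∘ₗ φ₀ = φ₁ ∘ₗ dd := by
    refine TensorProduct.AlgebraTensorModule.ext fun t y => ?_
    show P'.cotangentComplex (t • Extension.Cotangent.map f y) =
      t • Extension.CotangentSpace.map f (P.cotangentComplex y)
    rw [map_smul]
    congr 1
    exact (Extension.CotangentSpace.map_cotangentComplex f y).symm
  have key : ∀ z, (⟨φ₀ (ιH z), by
        rw [LinearMap.mem_ker, ← LinearMap.comp_apply, hw, LinearMap.comp_apply,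
          hι.apply_apply_eq_zero, map_zero]⟩ : H1Cotangent A' B') =
      H1Cotangent.map A A' B' B' (h1bc A B B' z) := by
    intro z
    refine Subtype.ext ?_
    show φ₀ (ιH z) = _
    induction z with
    | zero => simp
    | add a b ha hb => simp only [map_add, ha, hb]; rfl
    | tmul t y =>
      simp only [ιH, φ₀, h1bc, LinearMap.baseChange_tmul, LinearMap.liftBaseChange_tmul, map_smul,
        H1Cotangent.map]
      rw [← Extension.H1Cotangent.map_comp_apply, ← LinearMap.congr_fun (Extension.H1Cotangent.map_eq f _) y]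
      rfl
  have hbij : Function.Bijective (fun z => H1Cotangent.map A A' B' B' (h1bc A B B' z)) := by
    haveI := hA
    exact (GrothLib.H1Sheaf6.bijective_map_of_formallyEtale A A' B').comp (h1bc_bijective_of_indEtale A B B' hB)
  -- degree `0`
  let κ : B' ⊗[B] P.CotangentSpace →ₗ[B'] B' ⊗[B] Ω[B⁄A] := P.toKaehler.baseChange B'
  have hκ : Function.Exact dd κ :=
    lTensor_exact B' P.exact_cotangentComplex_toKaehler P.toKaehler_surjective
  have hκs : Function.Surjective κ := LinearMap.lTensor_surjective B' P.toKaehler_surjective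
  let θ : B' ⊗[B] Ω[B⁄A] →ₗ[B'] Ω[B'⁄A'] := NLCx.bcH0Map A B A' B'
  have hθ : Function.Bijective θ := by
    haveI := hA
    haveI := hB'
    have h : θ = (KaehlerDifferential.map A A' B' B').comp
        (KaehlerDifferential.tensorKaehlerEquivOfFormallyEtale A B B').toLinearMap := by
      refine TensorProduct.AlgebraTensorModule.ext fun t y => ?_
      simp only [θ, NLCx.bcH0Map, LinearMap.comp_apply, LinearMap.liftBaseChange_tmul, LinearEquiv.coe_coe,
        KaehlerDifferential.tensorKaehlerEquivOfFormallyEtale_apply, KaehlerDifferential.mapBaseChange_tmul,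
        map_smul]
      congr 1
      have hy := (KaehlerDifferential.span_range_derivation A B).ge (Submodule.mem_top (x := y))
      induction hy using Submodule.span_induction with
      | mem y hy => obtain ⟨b, rfl⟩ := hy; simp
      | zero => simp
      | add a b _ _ ha hb => simp only [map_add, ha, hb]
      | smul c a _ ha =>
        rw [map_smul, map_smul, ha]
        exact (((KaehlerDifferential.map A A' B' B').restrictScalars B).map_smul c _).symm
    rw [h, LinearMap.coe_comp]
    refine Function.Bijective.comp ⟨?_, KaehlerDifferential.map_surjective A A' B'⟩ (LinearEquiv.bijective _)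
    rw [injective_iff_map_eq_zero]
    intro x hx
    obtain ⟨y, rfl⟩ := (KaehlerDifferential.exact_mapBaseChange_map A A' B' x).1 hx
    rw [Subsingleton.elim y 0, map_zero]
  have hsq : ∀ a, P'.toKaehler (φ₁ a) = θ (κ a) := by
    intro a
    refine LinearMap.congr_fun (f := P'.toKaehler.comp φ₁) (g := θ.comp κ) ?_ a
    refine ((Generators.self A B).cotangentSpaceBasis.baseChange B').ext fun i => ?_
    rw [Module.Basis.baseChange_apply]
    show P'.toKaehler ((1 : B') • Extension.CotangentSpace.map f ((Generators.self A B).cotangentSpaceBasis i)) =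
      (1 : B') • KaehlerDifferential.map A A' B B' (P.toKaehler ((Generators.self A B).cotangentSpaceBasis i))
    rw [one_smul, one_smul]
    exact toKaehler_map_basis (Generators.self A B) (Generators.self A' B')
      ((Generators.self A B).defaultHom (Generators.self A' B')) i
  show QuasiIso (NLAmp.twoHom dd P'.cotangentComplex φ₀ φ₁ hw)
  refine quasiIso_twoHom _ _ _ _ _ (fun x hx hx' => ?_) (fun y hy => ?_) (fun a ha => ?_) (fun b => ?_)
  · obtain ⟨z, rfl⟩ := (hι x).1 hx
    have : H1Cotangent.map A A' B' B' (h1bc A B B' z) = 0 := (key z).symm.trans (Subtype.ext hx')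
    have hz : z = 0 := hbij.1 (this.trans (by simp))
    rw [hz, map_zero]
  · obtain ⟨z, hz⟩ := hbij.2 (⟨y, hy⟩ : H1Cotangent A' B')
    exact ⟨ιH z, hι.apply_apply_eq_zero z, congrArg Subtype.val ((key z).trans hz)⟩
  · obtain ⟨m, hm⟩ := ha
    refine (hκ a).1 (hθ.1 ?_)
    rw [map_zero, ← hsq, ← hm]
    exact P'.exact_cotangentComplex_toKaehler.apply_apply_eq_zero m
  · obtain ⟨k, hk⟩ := hθ.2 (P'.toKaehler b)
    obtain ⟨a, rfl⟩ := hκs k
    exact ⟨a, (P'.exact_cotangentComplex_toKaehler _).1 (by rw [map_sub, hsq, hk, sub_self])⟩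

end

end GrothLib.NLBC6
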